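import Mathlib

/-! The valuation ring induced on a finitely generated field has finite spectrum. -/

set_option autoImplicit false

universe u

namespace Groth.Agent.ValRingFinSpec

variable {K : Type u} [Field K]

open scoped IntermediateField.algebraAdjoinAdjoin in
/-- At most `#s` elements of `k₀(s)` are algebraically independent. -/
theorem card_le_of_algebraicIndependent {k₀ : Type u} [Field k₀] [Algebra k₀ K] (s : Finset K) {ι : Type}
    [Fintype ι] (y : ι → K) (hy : ∀ i, y i ∈ IntermediateField.adjoin k₀ (s : Set K))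
    (hind : AlgebraicIndependent k₀ y) : Fintype.card ι ≤ s.card := by
  let L := IntermediateField.adjoin k₀ (s : Set K)
  let A0 := Algebra.adjoin k₀ (s : Set K)
  have hind' : AlgebraicIndependent k₀ (fun i => (⟨y i, hy i⟩ : L)) :=
    AlgebraicIndependent.of_comp L.val hind
  haveI : Algebra.IsAlgebraic A0 L := IsLocalization.isAlgebraic _ (nonZeroDivisors A0)
  have h1 : Algebra.trdeg k₀ L = Algebra.trdeg k₀ A0 := by
    rw [← trdeg_add_eq k₀ A0 (A := L), trdeg_eq_zero (R := A0) (A := L), add_zero]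
  let f : MvPolynomial (s : Set K) k₀ →ₐ[k₀] A0 :=
    MvPolynomial.aeval fun x => ⟨x.1, Algebra.subset_adjoin x.2⟩
  have hf : Function.Surjective f := by
    rintro ⟨z, hz⟩
    obtain ⟨p, hp⟩ : ∃ p, MvPolynomial.aeval (fun x : (s : Set K) => (x : K)) p = z := by
      have : z ∈ Algebra.adjoin k₀ (Set.range fun x : (s : Set K) => (x : K)) := by
        rwa [Subtype.range_coe]
      rwa [Algebra.adjoin_range_eq_range_aeval] at this
    refine ⟨p, Subtype.ext ?_⟩
    change _ = z; rw [← hp]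
    exact (MvPolynomial.comp_aeval_apply _ A0.val p)
  have h2 := trdeg_le_of_surjective f hf
  rw [MvPolynomial.trdeg_of_isDomain, ← h1] at h2
  have h3 := hind'.lift_cardinalMk_le_trdeg
  have h4 := h3.trans (Cardinal.lift_le.2 h2)
  simp at h4
  exact h4

variable {Γ : Type u} [LinearOrderedCommGroupWithZero Γ] (v : Valuation K Γ)

/-- The values of a prime subfield lie in a cyclic group. -/
theorem exists_gen : ∃ γ : Γ, γ ≠ 0 ∧ ∀ c ∈ (⊥ : Subfield K), c ≠ 0 → ∃ e : ℤ, v c = γ ^ e := by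
  have hint : ∀ a : ℤ, v (a : K) ≤ 1 := by
    intro a
    induction a using Int.induction_on with
    | zero => simp
    | succ n hn => push_cast at hn ⊢; exact Valuation.map_add_le _ hn (by simp)
    | pred n hn => push_cast at hn ⊢; exact v.map_sub_le hn (by simp)
  obtain ⟨γ, hγ, hnat⟩ : ∃ γ : Γ, γ ≠ 0 ∧ ∀ n : ℕ, (n : K) ≠ 0 → ∃ e : ℤ, v (n : K) = γ ^ e := by
    classical
    by_cases h : ∃ n : ℕ, (n : K) ≠ 0 ∧ v (n : K) < 1
    · obtain ⟨hp0, hp1⟩ := Nat.find_spec h
      refine ⟨v (Nat.find h : K), (Valuation.ne_zero_iff _).2 hp0, fun n hn => ?_⟩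
      induction n using Nat.strong_induction_on with
      | _ n ih =>
        by_cases hdvd : Nat.find h ∣ n
        · obtain ⟨m, rfl⟩ := hdvd
          rw [Nat.cast_mul] at hn
          have hm0 : (m : K) ≠ 0 := right_ne_zero_of_mul hn
          have hp2 : 1 < Nat.find h := by
            rcases Nat.lt_trichotomy (Nat.find h) 1 with h' | h' | h'
            · simp [show Nat.find h = 0 by omega] at hp0
            · simp [h'] at hp1
            · exact h'
          have hm : m < Nat.find h * m :=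
            lt_mul_left (Nat.pos_of_ne_zero fun h0 => hm0 (by simp [h0])) hp2
          obtain ⟨e, he⟩ := ih m hm hm0
          exact ⟨1 + e, by rw [Nat.cast_mul, map_mul, he, zpow_add₀ ((Valuation.ne_zero_iff _).2 hp0), zpow_one]⟩
        · refine ⟨0, ?_⟩
          rw [zpow_zero]
          have hppos : 0 < Nat.find h := Nat.pos_of_ne_zero fun h0 => by simp [h0] at hp0
          have hr : n % Nat.find h < Nat.find h := Nat.mod_lt _ hppos
          have hr0 : n % Nat.find h ≠ 0 := fun h0 => hdvd (Nat.dvd_of_mod_eq_zero h0)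
          have hnr : v ((n : K) - (n % Nat.find h : ℕ)) < 1 := by
            have : (n : K) - (n % Nat.find h : ℕ) = (Nat.find h : K) * (n / Nat.find h : ℕ) := by
              conv_lhs => arg 1; rw [← Nat.mod_add_div n (Nat.find h)]
              push_cast; ring
            rw [this, map_mul]
            exact mul_lt_one_of_lt_of_le hp1 (by exact_mod_cast hint ((n / Nat.find h : ℕ) : ℤ))
          refine le_antisymm (by simpa using hint n) (not_lt.1 fun hlt => ?_)
          have h' : v (((n % Nat.find h : ℕ)) : K) < 1 := by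
            have := Valuation.map_sub_lt v hlt hnr
            simpa using this
          by_cases h0 : (((n % Nat.find h : ℕ)) : K) = 0
          · -- the characteristic is then smaller than the least such element
            obtain ⟨p, hchar⟩ := CharP.exists K
            have hpdvd : p ∣ n % Nat.find h := (CharP.cast_eq_zero_iff K p _).1 h0
            have hpne : p ≠ 0 := by rintro rfl; exact hr0 (zero_dvd_iff.1 hpdvd)
            have hple : p ≤ n % Nat.find h := Nat.le_of_dvd (Nat.pos_of_ne_zero hr0) hpdvd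
            have hcast : ((Nat.find h : ℕ) : K) = ((Nat.find h % p : ℕ) : K) := by
              conv_lhs => rw [← Nat.mod_add_div (Nat.find h) p]
              simp
            exact Nat.find_min h ((Nat.mod_lt _ (Nat.pos_of_ne_zero hpne)).trans (hple.trans_lt hr))
              ⟨hcast ▸ hp0, hcast ▸ hp1⟩
          · exact Nat.find_min h hr ⟨h0, h'⟩
    · refine ⟨1, one_ne_zero, fun n hn => ⟨0, ?_⟩⟩
      rw [zpow_zero]
      push Not at h
      exact le_antisymm (by simpa using hint n) (h n hn)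
  have hZ : ∀ a : ℤ, (a : K) ≠ 0 → ∃ e : ℤ, v (a : K) = γ ^ e := by
    intro a ha
    rcases Int.natAbs_eq a with h | h
    · rw [h, Int.cast_natCast] at ha ⊢; exact hnat _ ha
    · rw [h, Int.cast_neg, Int.cast_natCast, neg_ne_zero] at ha
      rw [h, Int.cast_neg, Int.cast_natCast, Valuation.map_neg]; exact hnat _ ha
  refine ⟨γ, hγ, fun c hc hc0 => ?_⟩
  obtain ⟨p, hchar⟩ := CharP.exists K
  rcases CharP.char_is_prime_or_zero K p with hp | hp
  · haveI := Fact.mk hp
    obtain ⟨a, rfl⟩ := (mem_bot_iff_intCast p K).1 hc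
    exact hZ a hc0
  · subst hp
    haveI : CharZero K := CharP.charP_to_charZero K
    rw [Subfield.bot_eq_of_charZero] at hc
    obtain ⟨q, rfl⟩ := hc
    rw [eq_ratCast, Rat.cast_def] at hc0 ⊢
    obtain ⟨e, he⟩ := hZ q.num (div_ne_zero_iff.1 hc0).1
    obtain ⟨f, hf⟩ := hnat q.den (div_ne_zero_iff.1 hc0).2
    exact ⟨e - f, by rw [map_div₀, he, hf, zpow_sub₀ hγ]⟩

variable {n : ℕ} {x : Fin n → K}

/-- If every element is infinitely smaller than the later ones, the values are independent. -/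
theorem eq_zero_of_prod_eq_one (hx0 : ∀ i, x i ≠ 0) (hx1 : ∀ i, v (x i) ≤ 1)
    (hsep : ∀ i (M : ℕ), v (x i) < (∏ j ∈ Finset.univ.filter (i < ·), v (x j)) ^ M)
    (d : Fin n → ℤ) (hd : ∏ i, v (x i) ^ d i = 1) : d = 0 := by
  classical
  have key : ∀ (d : Fin n → ℤ) (i : Fin n), (∀ j < i, d j = 0) → 0 < d i → ∏ j, v (x j) ^ d j < 1 := by
    intro d i hlow hi
    have hne : ∀ j, v (x j) ≠ 0 := fun j => (Valuation.ne_zero_iff _).2 (hx0 j)
    let M := ∑ j, (d j).natAbs
    let T := Finset.univ.filter (i < ·)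
    have hsplit : ∏ j, v (x j) ^ d j = v (x i) ^ d i * ∏ j ∈ T, v (x j) ^ d j := by
      rw [← Finset.mul_prod_erase _ _ (Finset.mem_univ i)]
      congr 1
      refine (Finset.prod_subset (fun j hj => Finset.mem_erase.2 ⟨?_, Finset.mem_univ j⟩) fun j hj hj' => ?_).symm
      · exact (Finset.mem_filter.1 hj).2.ne'
      · rw [hlow j (lt_of_le_of_ne (not_lt.1 fun h => hj' (Finset.mem_filter.2 ⟨Finset.mem_univ j, h⟩))
          (Finset.mem_erase.1 hj).1), zpow_zero]
    rw [hsplit]
    have hT : ∏ j ∈ T, v (x j) ^ d j ≤ ((∏ j ∈ T, v (x j)) ^ M)⁻¹ := by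
      rw [← Finset.prod_pow, ← Finset.prod_inv_distrib]
      refine Finset.prod_le_prod' fun j _ => ?_
      rw [← zpow_natCast, ← zpow_neg]
      refine zpow_le_zpow_right_of_le_one₀ (zero_lt_iff.2 (hne j)) (hx1 j) ?_
      have : (d j).natAbs ≤ M := Finset.single_le_sum (f := fun k => (d k).natAbs) (fun k _ => Nat.zero_le _) (Finset.mem_univ j)
      omega
    have hi' : v (x i) ^ d i ≤ v (x i) := by
      conv_rhs => rw [← zpow_one (v (x i))]
      exact zpow_le_zpow_right_of_le_one₀ (zero_lt_iff.2 (hne i)) (hx1 i) hi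
    have hpos : 0 < (∏ j ∈ T, v (x j)) ^ M :=
      zero_lt_iff.2 (pow_ne_zero _ (Finset.prod_ne_zero_iff.2 fun j _ => hne j))
    calc v (x i) ^ d i * ∏ j ∈ T, v (x j) ^ d j ≤ v (x i) * ((∏ j ∈ T, v (x j)) ^ M)⁻¹ :=
          mul_le_mul' hi' hT
      _ < 1 := by rw [← div_eq_mul_inv, div_lt_one₀ hpos]; exact hsep i M
  by_contra h
  obtain ⟨i, hi, hlow⟩ : ∃ i, d i ≠ 0 ∧ ∀ j < i, d j = 0 := by
    have hS : (Finset.univ.filter fun i => d i ≠ 0).Nonempty := by
      obtain ⟨i, hi⟩ := Function.ne_iff.1 h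
      exact ⟨i, by simpa using hi⟩
    refine ⟨_, (Finset.mem_filter.1 (Finset.min'_mem _ hS)).2, fun j hj => ?_⟩
    by_contra hj0
    exact (Finset.min'_le _ j (by simpa using hj0)).not_gt hj
  rcases lt_or_gt_of_ne hi with hi | hi
  · have h1 := key (-d) i (fun j hj => by simp [hlow j hj]) (by simpa using hi)
    simp only [Pi.neg_apply, zpow_neg, Finset.prod_inv_distrib, hd, inv_one] at h1
    exact lt_irrefl _ h1
  · exact (key d i hlow hi).ne hd

/-- All but one of the elements are algebraically independent over the prime subfield. -/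
theorem exists_algebraicIndependent (hx0 : ∀ i, x i ≠ 0)
    (hind : ∀ d : Fin n → ℤ, ∏ i, v (x i) ^ d i = 1 → d = 0) :
    ∃ S : Finset (Fin n), n ≤ S.card + 1 ∧
      AlgebraicIndependent (⊥ : Subfield K) (fun i : S => x i) := by
  classical
  obtain ⟨γ, hγ, hk⟩ := exists_gen v
  have hne : ∀ j, v (x j) ≠ 0 := fun j => (Valuation.ne_zero_iff _).2 (hx0 j)
  let ψ : (Fin n → ℤ) → Γ := fun d => ∏ i, v (x i) ^ d i
  obtain ⟨S, hS, hS'⟩ : ∃ S : Finset (Fin n), n ≤ S.card + 1 ∧
      ∀ d : Fin n → ℤ, (∀ i ∉ S, d i = 0) → (∃ e : ℤ, ψ d = γ ^ e) → d = 0 := by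
    by_cases h : ∃ d, d ≠ 0 ∧ ∃ e : ℤ, ψ d = γ ^ e
    · obtain ⟨d₀, hd₀, e₀, he₀⟩ := h
      obtain ⟨i, hi⟩ := Function.ne_iff.1 hd₀
      refine ⟨Finset.univ.erase i, by simp; omega, fun d hdS => ?_⟩
      rintro ⟨e, he⟩
      have h1 := hind (fun j => e₀ * d j - e * d₀ j) (by
        simp only [zpow_sub₀ (hne _), Finset.prod_div_distrib, mul_comm e₀, mul_comm e,
          zpow_mul, Finset.prod_zpow]
        change ψ d ^ e₀ / ψ d₀ ^ e = 1
        rw [he, he₀, ← zpow_mul, ← zpow_mul, mul_comm, div_self (zpow_ne_zero _ hγ)])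
      have he0 : e = 0 := by
        have := congrFun h1 i
        simp only [hdS i (by simp), mul_zero, zero_sub, Pi.zero_apply, neg_eq_zero, mul_eq_zero] at this
        exact this.resolve_right hi
      exact hind d (by change ψ d = 1; rw [he, he0, zpow_zero])
    · push Not at h
      refine ⟨Finset.univ, by simp, fun d _ ⟨e, he⟩ => ?_⟩
      by_contra hd
      exact h d hd e he
  refine ⟨S, hS, algebraicIndependent_iff.2 fun p hp => ?_⟩
  by_contra hp0
  have hpne : p.support.Nonempty := MvPolynomial.support_nonempty.2 hp0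
  let f : (S →₀ ℕ) → K := fun d => ((p.coeff d : (⊥ : Subfield K)) : K) * ∏ i : S, x i ^ d i
  have hsum : ∑ d ∈ p.support, f d = 0 := by
    rw [← hp, MvPolynomial.aeval_def, MvPolynomial.eval₂_eq']
    rfl
  obtain ⟨d₁, hd₁, hmax⟩ := Finset.exists_max_image p.support (fun d => v (f d)) hpne
  have hf0 : ∀ d ∈ p.support, f d ≠ 0 := fun d hd => mul_ne_zero
    (fun h => MvPolynomial.mem_support_iff.1 hd (Subtype.ext h))
    (Finset.prod_ne_zero_iff.2 fun i _ => pow_ne_zero _ (hx0 i))
  obtain ⟨d₂, hd₂, hne12, heq⟩ : ∃ d₂ ∈ p.support, d₂ ≠ d₁ ∧ v (f d₂) = v (f d₁) := by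
    by_contra hnone
    push Not at hnone
    have := Valuation.map_sum_eq_of_lt v hd₁ fun d hd =>
      have h' := Finset.mem_sdiff.1 hd
      lt_of_le_of_ne (hmax d h'.1) (hnone d h'.1 fun h => h'.2 (Finset.mem_singleton.2 h))
    rw [hsum, map_zero] at this
    exact (Valuation.ne_zero_iff _).2 (hf0 _ hd₁) this.symm
  obtain ⟨e₁, he₁⟩ := hk _ (p.coeff d₁).2 fun h => MvPolynomial.mem_support_iff.1 hd₁ (Subtype.ext h)
  obtain ⟨e₂, he₂⟩ := hk _ (p.coeff d₂).2 fun h => MvPolynomial.mem_support_iff.1 hd₂ (Subtype.ext h)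
  let ext : (S →₀ ℕ) → Fin n → ℤ := fun d j => if h : j ∈ S then (d ⟨j, h⟩ : ℤ) else 0
  have hψ : ∀ d, ψ (ext d) = ∏ i : S, v (x i) ^ d i := by
    intro d
    change ∏ j, _ = _
    rw [← Finset.prod_subset (Finset.subset_univ S) (fun j _ hj => by simp [ext, hj]),
      ← Finset.prod_coe_sort]
    exact Finset.prod_congr rfl fun i _ => by simp [ext]
  refine hne12 (Finsupp.ext fun i => ?_)
  have h0 := hS' (fun j => ext d₂ j - ext d₁ j) (fun j hj => by simp [ext, hj]) ⟨e₁ - e₂, by
    have h' := heq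
    simp only [f, map_mul, map_prod, map_pow, he₁, he₂, ← hψ] at h'
    change ∏ j, _ = _
    simp only [zpow_sub₀ (hne _), Finset.prod_div_distrib, zpow_sub₀ hγ]
    change ψ (ext d₂) / ψ (ext d₁) = _
    rw [div_eq_div_iff (Finset.prod_ne_zero_iff.2 fun j _ => zpow_ne_zero _ (hne j)) (zpow_ne_zero _ hγ),
      mul_comm, h']⟩
  have := congrFun h0 i
  simp [ext] at this
  omega

end Groth.Agent.ValRingFinSpec
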